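import Mathlib
import Groth.Prelude.Def_W4bk4boschfrg79
import Groth.Agent.Lib.Helper8.CTensor1

/-!
# helper8: closed points of the special fibre of the formal affine space lift to rig-points
-/

set_option autoImplicit false
universe u

open Polynomial

namespace Groth.Agent.H8.RigPt

/-- integral injective extensions preserve Krull dimension -/
theorem ringKrullDim_eq_of_integral_injective (A B : Type*) [CommRing A] [CommRing B] [Algebra A B]
    [Algebra.IsIntegral A B] (hinj : Function.Injective (algebraMap A B)) :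
    ringKrullDim B = ringKrullDim A := by
  have h1 : ringKrullDim B ≤ ringKrullDim A := by
    unfold ringKrullDim
    apply Order.krullDim_le_of_strictMono (PrimeSpectrum.comap (algebraMap A B))
    intro P Q hPQ
    rw [← PrimeSpectrum.asIdeal_lt_asIdeal] at hPQ ⊢
    exact Ideal.IsIntegral.comap_lt_comap hPQ
  refine le_antisymm h1 ?_
  unfold ringKrullDim
  rw [Order.krullDim]
  apply iSup_le
  intro l
  obtain ⟨P, hP, hPl⟩ := Ideal.exists_ideal_over_prime_of_isIntegral (S := B) l.head.asIdeal
    (⊥ : Ideal B) (by rw [Ideal.comap_bot_of_injective _ hinj]; exact bot_le)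
  have : P.LiesOver l.head.asIdeal := ⟨hPl.2.symm⟩
  have := hPl.1
  obtain ⟨L, hL, -, -⟩ := Ideal.exists_ltSeries_of_hasGoingUp l P
  rw [← hL]
  exact Order.LTSeries.length_le_krullDim L

theorem ringKrullDim_eq_one (R : Type*) [CommRing R] [IsDomain R] [Ring.KrullDimLE 1 R]
    (q : Ideal R) [hq : q.IsPrime] (hq0 : q ≠ ⊥) : ringKrullDim R = 1 := by
  apply le_antisymm
  · have := Ring.krullDimLE_iff.mp ‹Ring.KrullDimLE 1 R›
    simpa using this
  · rw [ringKrullDim, Order.one_le_krullDim_iff]
    refine ⟨⟨⊥, Ideal.bot_prime⟩, ⟨q, hq⟩, ?_⟩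
    rw [← PrimeSpectrum.asIdeal_lt_asIdeal]
    exact bot_lt_iff_ne_bot.mpr hq0

section Basis

theorem mem_smul_top_iff_repr {R : Type*} [CommRing R] {M : Type*} [AddCommGroup M] [Module R M]
    {ι : Type*} [Fintype ι] (b : Module.Basis ι R M) (J : Ideal R) (x : M) :
    x ∈ J • (⊤ : Submodule R M) ↔ ∀ i, b.repr x i ∈ J := by
  constructor
  · intro hx i
    refine Submodule.smul_induction_on hx (fun r hr m _ => ?_) (fun x y hx hy => ?_)
    · rw [map_smul, Finsupp.smul_apply, smul_eq_mul]
      exact J.mul_mem_right _ hr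
    · rw [map_add, Finsupp.add_apply]
      exact J.add_mem hx hy
  · intro h
    rw [← b.sum_repr x]
    exact Submodule.sum_mem _ fun i _ => Submodule.smul_mem_smul (h i) Submodule.mem_top

theorem isAdicComplete_of_basis {R : Type*} [CommRing R] {M : Type*} [AddCommGroup M] [Module R M]
    {ι : Type*} [Fintype ι] (b : Module.Basis ι R M) (I : Ideal R) [IsAdicComplete I R] :
    IsAdicComplete I M := by
  have h1 : IsHausdorff I M := by
    refine ⟨fun x hx => ?_⟩
    apply b.repr.injective
    rw [map_zero]
    ext i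
    rw [Finsupp.zero_apply]
    refine IsHausdorff.haus' (I := I) _ fun k => ?_
    rw [SModEq.zero, smul_eq_mul, Ideal.mul_top]
    have := hx k
    rw [SModEq.zero] at this
    exact (mem_smul_top_iff_repr b (I ^ k) x).mp this i
  have h2 : IsPrecomplete I M := by
    refine ⟨fun f hf => ?_⟩
    have hc : ∀ i, ∃ L : R, ∀ k, b.repr (f k) i ≡ L [SMOD (I ^ k • ⊤ : Submodule R R)] := by
      intro i
      refine IsPrecomplete.prec' (I := I) (fun k => b.repr (f k) i) ?_
      intro k l hkl
      have := hf hkl
      rw [SModEq.sub_mem] at this ⊢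
      rw [smul_eq_mul, Ideal.mul_top]
      have h2 := (mem_smul_top_iff_repr b (I ^ k) _).mp this i
      rwa [map_sub, Finsupp.sub_apply] at h2
    choose L hL using hc
    refine ⟨b.equivFun.symm L, fun k => ?_⟩
    rw [SModEq.sub_mem, mem_smul_top_iff_repr b]
    intro i
    have := hL i k
    rw [SModEq.sub_mem, smul_eq_mul, Ideal.mul_top] at this
    rw [map_sub, Finsupp.sub_apply]
    have h3 : b.repr (b.equivFun.symm L) i = L i := by
      rw [← b.equivFun_apply, LinearEquiv.apply_symm_apply]
    rw [h3]
    exact this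
  exact { toIsHausdorff := h1, toIsPrecomplete := h2 }

theorem isAdicComplete_of_free_finite (R : Type*) [CommRing R] (M : Type*) [AddCommGroup M]
    [Module R M] [Module.Free R M] [Module.Finite R M] (I : Ideal R) [IsAdicComplete I R] :
    IsAdicComplete I M :=
  isAdicComplete_of_basis (Module.Free.chooseBasis R M) I

end Basis

/-- a finite free algebra mapping to `K` whose image contains a given finite list of integral
elements. -/
theorem exists_finite_free (S : Type u) [CommRing S] (K : Type u) [CommRing K] [Algebra S K]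
    (l : List K) (hl : ∀ x ∈ l, IsIntegral S x) :
    ∃ (B : Type u) (_ : CommRing B) (_ : Algebra S B) (_ : Module.Free S B) (_ : Module.Finite S B)
      (ψ : B →ₐ[S] K), ∀ x ∈ l, x ∈ ψ.range := by
  induction l with
  | nil =>
    exact ⟨S, inferInstance, inferInstance, inferInstance, inferInstance, Algebra.ofId S K,
      fun x hx => absurd hx List.not_mem_nil⟩
  | cons x l ih =>
    obtain ⟨B, _, _, _, _, ψ, hψ⟩ := ih (fun y hy => hl y (List.mem_cons_of_mem _ hy))
    obtain ⟨F, hF, hFx⟩ := hl x List.mem_cons_self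
    have hG : (F.map (algebraMap S B)).Monic := hF.map _
    have hroot : (F.map (algebraMap S B)).eval₂ (ψ : B →+* K) x = 0 := by
      rw [Polynomial.eval₂_map]
      have : (ψ : B →+* K).comp (algebraMap S B) = algebraMap S K := ψ.comp_algebraMap
      rw [this]
      exact hFx
    haveI : Module.Free B (AdjoinRoot (F.map (algebraMap S B))) := hG.free_adjoinRoot
    haveI : Module.Finite B (AdjoinRoot (F.map (algebraMap S B))) := hG.finite_adjoinRoot
    refine ⟨AdjoinRoot (F.map (algebraMap S B)), inferInstance, inferInstance,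
      Module.Free.trans (R := S) (S := B), Module.Finite.trans B _,
      AdjoinRoot.liftAlgHom _ ψ x hroot, ?_⟩
    intro y hy
    rcases List.mem_cons.mp hy with rfl | hy
    · exact ⟨AdjoinRoot.root _, AdjoinRoot.liftAlgHom_root _ _ _ _⟩
    · obtain ⟨b, hb⟩ := hψ y hy
      refine ⟨AdjoinRoot.of _ b, ?_⟩
      show AdjoinRoot.liftAlgHom _ ψ x hroot (AdjoinRoot.of _ b) = y
      rw [AdjoinRoot.liftAlgHom_of]
      exact hb

/-- a field of finite type over a one-dimensional domain in which a nonzero element dies is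
integral over it. -/
theorem isIntegral_of_finiteType_field (R : Type u) [CommRing R] [IsDomain R]
    [Ring.KrullDimLE 1 R] (t : R) (ht : t ≠ 0) (K : Type u) [Field K] [Algebra R K]
    [Algebra.FiniteType R K] (htK : algebraMap R K t = 0) : Algebra.IsIntegral R K := by
  have hprime : (RingHom.ker (algebraMap R K)).IsPrime := RingHom.ker_isPrime _
  have hne : RingHom.ker (algebraMap R K) ≠ ⊥ := by
    intro h
    have h1 : t ∈ RingHom.ker (algebraMap R K) := htK
    rw [h] at h1
    exact ht h1
  haveI hmax : (RingHom.ker (algebraMap R K)).IsMaximal := hprime.isMaximal_of_ne_bot hne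
  letI : Field (R ⧸ RingHom.ker (algebraMap R K)) := Ideal.Quotient.field _
  letI : Algebra (R ⧸ RingHom.ker (algebraMap R K)) K :=
    (Ideal.Quotient.lift _ (algebraMap R K) (fun a ha => ha)).toAlgebra
  haveI : IsScalarTower R (R ⧸ RingHom.ker (algebraMap R K)) K :=
    IsScalarTower.of_algebraMap_eq (fun r => rfl)
  haveI : Algebra.FiniteType (R ⧸ RingHom.ker (algebraMap R K)) K :=
    Algebra.FiniteType.of_restrictScalars_finiteType R _ K
  haveI : Module.Finite (R ⧸ RingHom.ker (algebraMap R K)) K :=
    finite_of_finite_type_of_isJacobsonRing _ _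
  haveI : Algebra.IsIntegral (R ⧸ RingHom.ker (algebraMap R K)) K :=
    Algebra.IsIntegral.of_finite _ _
  haveI : Algebra.IsIntegral R (R ⧸ RingHom.ker (algebraMap R K)) :=
    Algebra.isIntegral_of_surjective Ideal.Quotient.mk_surjective
  exact ⟨fun x => isIntegral_trans (A := R ⧸ RingHom.ker (algebraMap R K)) x
    (Algebra.IsIntegral.isIntegral x)⟩

section Lift

variable {T : Type u} [CommRing T] (J : Ideal T) (B : Type u) [CommRing B] [Algebra T B]

/-- the maps `T^ → B ⧸ (J B) ^ n`. -/
noncomputable def psiN (n : ℕ) : AdicCompletion J T →ₐ[T] B ⧸ (J.map (algebraMap T B)) ^ n :=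
  (Ideal.Quotient.liftₐ (J ^ n) (Algebra.ofId T (B ⧸ (J.map (algebraMap T B)) ^ n))
    (by
      intro t ht
      change Ideal.Quotient.mk _ (algebraMap T B t) = 0
      rw [Ideal.Quotient.eq_zero_iff_mem, ← Ideal.map_pow]
      exact Ideal.mem_map_of_mem _ ht)).comp (AdicCompletion.evalₐ J n)

theorem psiN_apply (n : ℕ) (x : AdicCompletion J T) (t : T)
    (ht : AdicCompletion.evalₐ J n x = Ideal.Quotient.mk (J ^ n) t) :
    psiN J B n x = Ideal.Quotient.mk _ (algebraMap T B t) := by
  unfold psiN
  rw [AlgHom.comp_apply, ht]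
  rfl

theorem psiN_compat {k n : ℕ} (hle : k ≤ n) :
    (Ideal.Quotient.factorₐ T (Ideal.pow_le_pow_right hle)).comp (psiN J B n) = psiN J B k := by
  ext x
  obtain ⟨t, ht⟩ := Ideal.Quotient.mk_surjective (AdicCompletion.evalₐ J n x)
  have ht' : AdicCompletion.evalₐ J k x = Ideal.Quotient.mk (J ^ k) t := by
    rw [← CT.factorPow_evalₐ J hle x, ← ht]; rfl
  rw [AlgHom.comp_apply, psiN_apply J B n x t ht.symm, psiN_apply J B k x t ht']
  rfl

variable [IsAdicComplete (J.map (algebraMap T B)) B]

/-- the canonical map from the completion of `T` to a complete `T`-algebra. -/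
noncomputable def lift : AdicCompletion J T →ₐ[T] B :=
  IsAdicComplete.liftAlgHom (J.map (algebraMap T B)) (psiN J B)
    (fun hle => psiN_compat J B hle)

end Lift

theorem exists_lift {R : Type u} [CommRing R] {T : Type u} [CommRing T] [Algebra R T] (t : R)
    (J : Ideal T) (hJ : J = Ideal.span {algebraMap R T t})
    (B : Type u) [CommRing B] [Algebra R B] [IsAdicComplete (Ideal.span {t}) B]
    (θ : T →ₐ[R] B) :
    ∃ φ : AdicCompletion J T →ₐ[R] B,
      ∀ p : T, φ (algebraMap T (AdicCompletion J T) p) = θ p := by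
  letI : Algebra T B := θ.toRingHom.toAlgebra
  haveI : IsScalarTower R T B := IsScalarTower.of_algebraMap_eq (fun r => (θ.commutes r).symm)
  have hmap : J.map (algebraMap T B) = (Ideal.span {t}).map (algebraMap R B) := by
    rw [hJ, Ideal.map_span, Ideal.map_span, Set.image_singleton, Set.image_singleton]
    congr 2
    exact θ.commutes t
  haveI : IsAdicComplete (J.map (algebraMap T B)) B := by
    rw [hmap]
    exact (IsAdicComplete.map_algebraMap_iff _ _).mpr inferInstance
  haveI : IsScalarTower R T (AdicCompletion J T) := IsScalarTower.of_algebraMap_eq (fun r => rfl)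
  refine ⟨(lift J B).restrictScalars R, fun p => ?_⟩
  exact (lift J B).commutes p

theorem exists_eq_add_mul {T : Type u} [CommRing T] (τ : T) (J : Ideal T)
    (hJ : J = Ideal.span {τ}) (a : AdicCompletion J T) :
    ∃ (p : T) (a' : AdicCompletion J T),
      a = algebraMap T _ p + algebraMap T _ τ * a' := by
  subst hJ
  obtain ⟨p, hp⟩ := CT.exists_sub_mem (Ideal.span {τ}) ⟨{τ}, by simp⟩ a 1
  rw [pow_one, Ideal.map_span, Set.image_singleton, Ideal.mem_span_singleton'] at hp
  obtain ⟨a', ha'⟩ := hp
  exact ⟨p, a', by rw [mul_comm, ha']; ring⟩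

end Groth.Agent.H8.RigPt
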