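import Groth.Agent.Lib.Helper8.RigPt.Val

/-!
# helper8: every algebraic element over a valuation ring whose finite domain extensions are local
is integral or has integral inverse
-/

set_option autoImplicit false
universe u

open Polynomial IsLocalRing

namespace Groth.Agent.H8.RigPt

theorem exists_primitive (R : Type*) [CommRing R] [IsDomain R] [ValuationRing R]
    (L : Type*) [Field L] [Algebra R L] (hinj : Function.Injective (algebraMap R L))
    (x : L) (hx : IsAlgebraic R x) :
    ∃ f : R[X], aeval x f = 0 ∧ Ideal.span (Set.range f.coeff) = ⊤ := by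
  classical
  obtain ⟨f, hf0, hfx⟩ := hx
  have hfin : (Set.range f.coeff).Finite := by
    refine Set.Finite.subset (Finset.finite_toSet (insert 0 f.coeffs)) ?_
    rintro y ⟨i, rfl⟩
    by_cases h : f.coeff i = 0
    · rw [h]; simp
    · rw [Finset.coe_insert]
      exact Or.inr (Polynomial.coeff_mem_coeffs h)
  have hfg : (Ideal.span (Set.range f.coeff)).FG := Submodule.fg_span hfin
  obtain ⟨a, ha⟩ := (IsBezout.isPrincipal_of_FG _ hfg).principal
  have ha' : Ideal.span (Set.range f.coeff) = Ideal.span {a} := ha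
  have ha0 : a ≠ 0 := by
    rintro rfl
    apply hf0
    ext i
    have : f.coeff i ∈ Ideal.span (Set.range f.coeff) := Ideal.subset_span ⟨i, rfl⟩
    rw [ha', Ideal.mem_span_singleton'] at this
    obtain ⟨c, hc⟩ := this
    rw [coeff_zero, ← hc, mul_zero]
  have hc : ∀ i, ∃ c, f.coeff i = a * c := by
    intro i
    have : f.coeff i ∈ Ideal.span (Set.range f.coeff) := Ideal.subset_span ⟨i, rfl⟩
    rw [ha', Ideal.mem_span_singleton'] at this
    obtain ⟨c, hc⟩ := this
    exact ⟨c, by rw [← hc, mul_comm]⟩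
  choose c hc using hc
  obtain ⟨f', hf'⟩ : ∃ f' : R[X], f' = ∑ i ∈ Finset.range (f.natDegree + 1), monomial i (c i) :=
    ⟨_, rfl⟩
  have hcoeff : ∀ i, f.coeff i = a * f'.coeff i := by
    intro i
    rw [hf', finset_sum_coeff]
    simp only [coeff_monomial]
    rw [Finset.sum_ite_eq' (Finset.range (f.natDegree + 1)) i]
    by_cases hi : i ∈ Finset.range (f.natDegree + 1)
    · rw [if_pos hi]; exact hc i
    · rw [if_neg hi, mul_zero]
      rw [Finset.mem_range, not_lt] at hi
      exact coeff_eq_zero_of_natDegree_lt (by omega)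
  have hff' : f = C a * f' := by
    ext i
    rw [coeff_C_mul]
    exact hcoeff i
  refine ⟨f', ?_, ?_⟩
  · rw [hff', map_mul, aeval_C] at hfx
    rcases mul_eq_zero.mp hfx with h | h
    · exact absurd ((injective_iff_map_eq_zero _).mp hinj a h) ha0
    · exact h
  · have h1 : Ideal.span (Set.range f.coeff) ≤ Ideal.span {a} * Ideal.span (Set.range f'.coeff) := by
      rw [Ideal.span_le]
      rintro _ ⟨i, rfl⟩
      rw [hcoeff i]
      exact Ideal.mul_mem_mul (Ideal.mem_span_singleton_self a) (Ideal.subset_span ⟨i, rfl⟩)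
    have h2 : a ∈ Ideal.span {a} * Ideal.span (Set.range f'.coeff) :=
      h1 (ha' ▸ Ideal.mem_span_singleton_self a)
    rw [Ideal.mem_span_singleton_mul] at h2
    obtain ⟨z, hz, hza⟩ := h2
    have hz1 : z = 1 := by
      have : a * z = a * 1 := by rw [hza, mul_one]
      exact mul_left_cancel₀ ha0 this
    rw [Ideal.eq_top_iff_one, ← hz1]
    exact hz

theorem isIntegral_or_inv (R : Type u) [CommRing R] [IsDomain R] [ValuationRing R]
    (hloc : ∀ (C : Type u) [CommRing C] [IsDomain C] [Algebra R C] [Module.Finite R C],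
      IsLocalRing C)
    (L : Type u) [Field L] [Algebra R L] (hinj : Function.Injective (algebraMap R L))
    (x : L) (hx : IsAlgebraic R x) : IsIntegral R x ∨ IsIntegral R x⁻¹ := by
  classical
  by_cases hx0 : x = 0
  · left; rw [hx0]; exact isIntegral_zero
  obtain ⟨f, hfx, hfc⟩ := exists_primitive R L hinj x hx
  have hcl : ∀ y : L, IsIntegral (integralClosure R L) y →
      ∃ s : integralClosure R L, algebraMap (integralClosure R L) L s = y := by
    intro y hy
    have : IsIntegral R y := isIntegral_trans y hy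
    exact ⟨⟨y, this⟩, rfl⟩
  have hfS : aeval x (f.map (algebraMap R (integralClosure R L))) = 0 := by
    rw [aeval_map_algebraMap]; exact hfx
  obtain ⟨q, hq⟩ := exists_quotient_by_linear (integralClosure R L) L hcl x _
    (f.map (algebraMap R (integralClosure R L))) le_rfl hfS
  obtain ⟨Q, hQ⟩ : ∃ Q : L[X], Q = q.map (algebraMap (integralClosure R L) L) := ⟨_, rfl⟩
  have hQint : ∀ i, IsIntegral R (Q.coeff i) := by
    intro i
    rw [hQ, coeff_map]
    exact (q.coeff i).2
  have hfQ : f.map (algebraMap R L) = (X - C x) * Q := by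
    rw [hQ, ← hq, Polynomial.map_map, ← IsScalarTower.algebraMap_eq]
  have hc0 : algebraMap R L (f.coeff 0) = - (x * Q.coeff 0) := by
    have := congrArg (fun p => p.coeff 0) hfQ
    simp only [coeff_map] at this
    rw [this, sub_mul, coeff_sub, coeff_X_mul_zero, coeff_C_mul, zero_sub]
  have hcs : ∀ j, algebraMap R L (f.coeff (j + 1)) = Q.coeff j - x * Q.coeff (j + 1) := by
    intro j
    have := congrArg (fun p => p.coeff (j + 1)) hfQ
    simp only [coeff_map] at this
    rw [this, sub_mul, coeff_sub, coeff_X_mul, coeff_C_mul]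
  have hxQint : ∀ i, IsIntegral R (x * Q.coeff i) := by
    intro i
    cases i with
    | zero =>
      have : x * Q.coeff 0 = - algebraMap R L (f.coeff 0) := by rw [hc0, neg_neg]
      rw [this]
      exact isIntegral_algebraMap.neg
    | succ j =>
      have : x * Q.coeff (j + 1) = Q.coeff j - algebraMap R L (f.coeff (j + 1)) := by
        rw [hcs]; ring
      rw [this]
      exact (hQint j).sub isIntegral_algebraMap
  have hfin1 : (Set.range Q.coeff).Finite := by
    refine Set.Finite.subset (Finset.finite_toSet (insert 0 Q.coeffs)) ?_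
    rintro y ⟨i, rfl⟩
    by_cases h : Q.coeff i = 0
    · rw [h]; simp
    · rw [Finset.coe_insert]
      exact Or.inr (Polynomial.coeff_mem_coeffs h)
  have hfin2 : (Set.range fun i => x * Q.coeff i).Finite := by
    refine (hfin1.image (fun y => x * y)).subset ?_
    rintro _ ⟨i, rfl⟩
    exact ⟨_, ⟨i, rfl⟩, rfl⟩
  obtain ⟨C', hC'⟩ : ∃ C' : Subalgebra R L,
      C' = Algebra.adjoin R (Set.range Q.coeff ∪ Set.range fun i => x * Q.coeff i) := ⟨_, rfl⟩
  have hfg : (Subalgebra.toSubmodule C').FG := by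
    rw [hC']
    refine fg_adjoin_of_finite (hfin1.union hfin2) ?_
    rintro y (⟨i, rfl⟩ | ⟨i, rfl⟩)
    · exact hQint i
    · exact hxQint i
  have hQmem : ∀ i, Q.coeff i ∈ C' := fun i => by
    rw [hC']; exact Algebra.subset_adjoin (Or.inl ⟨i, rfl⟩)
  have hxQmem : ∀ i, x * Q.coeff i ∈ C' := fun i => by
    rw [hC']; exact Algebra.subset_adjoin (Or.inr ⟨i, rfl⟩)
  haveI : Module.Finite R C' := Module.Finite.iff_fg.mpr hfg
  haveI : IsLocalRing C' := hloc C'
  obtain ⟨𝔞, h𝔞⟩ : ∃ 𝔞 : Ideal C',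
      𝔞 = Ideal.span (Set.range fun i => (⟨Q.coeff i, hQmem i⟩ : C')) := ⟨_, rfl⟩
  obtain ⟨𝔟, h𝔟⟩ : ∃ 𝔟 : Ideal C',
      𝔟 = Ideal.span (Set.range fun i => (⟨x * Q.coeff i, hxQmem i⟩ : C')) := ⟨_, rfl⟩
  have hcoef : ∀ j, algebraMap R C' (f.coeff j) ∈ 𝔞 ⊔ 𝔟 := by
    intro j
    cases j with
    | zero =>
      have : algebraMap R C' (f.coeff 0) = - (⟨x * Q.coeff 0, hxQmem 0⟩ : C') := Subtype.ext hc0
      rw [this]
      refine (𝔞 ⊔ 𝔟).neg_mem (Ideal.mem_sup_right ?_)
      rw [h𝔟]
      exact Ideal.subset_span ⟨0, rfl⟩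
    | succ j =>
      have : algebraMap R C' (f.coeff (j + 1)) =
          (⟨Q.coeff j, hQmem j⟩ : C') - ⟨x * Q.coeff (j + 1), hxQmem (j + 1)⟩ :=
        Subtype.ext (hcs j)
      rw [this]
      refine (𝔞 ⊔ 𝔟).sub_mem (Ideal.mem_sup_left ?_) (Ideal.mem_sup_right ?_)
      · rw [h𝔞]; exact Ideal.subset_span ⟨j, rfl⟩
      · rw [h𝔟]; exact Ideal.subset_span ⟨j + 1, rfl⟩
  have htop : 𝔞 ⊔ 𝔟 = ⊤ := by
    have h1 : Ideal.span (Set.range f.coeff) ≤ (𝔞 ⊔ 𝔟).comap (algebraMap R C') := by
      rw [Ideal.span_le]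
      rintro _ ⟨j, rfl⟩
      exact hcoef j
    rw [hfc] at h1
    have : (1 : R) ∈ (𝔞 ⊔ 𝔟).comap (algebraMap R C') := h1 Submodule.mem_top
    rw [Ideal.mem_comap, map_one] at this
    exact (Ideal.eq_top_iff_one _).mpr this
  have hor : 𝔞 = ⊤ ∨ 𝔟 = ⊤ := by
    by_contra hcon
    push Not at hcon
    have h1 := IsLocalRing.le_maximalIdeal hcon.1
    have h2 := IsLocalRing.le_maximalIdeal hcon.2
    have : (⊤ : Ideal C') ≤ maximalIdeal C' := htop ▸ sup_le h1 h2
    exact (maximalIdeal.isMaximal C').ne_top (top_le_iff.mp this)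
  rcases hor with h | h
  · left
    have key : ∀ s ∈ 𝔞, x * (s : L) ∈ C' := by
      intro s hs
      rw [h𝔞] at hs
      refine Submodule.span_induction (p := fun (s : C') _ => x * (s : L) ∈ C') ?_ ?_ ?_ ?_ hs
      · rintro _ ⟨i, rfl⟩
        exact hxQmem i
      · rw [ZeroMemClass.coe_zero, mul_zero]; exact C'.zero_mem
      · intro u v _ _ hu hv
        rw [Subalgebra.coe_add, mul_add]
        exact C'.add_mem hu hv
      · intro r u _ hu
        rw [smul_eq_mul, Subalgebra.coe_mul, mul_left_comm]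
        exact C'.mul_mem r.2 hu
    have h1 : (1 : C') ∈ 𝔞 := by rw [h]; trivial
    have h2 := key 1 h1
    rw [OneMemClass.coe_one, mul_one] at h2
    exact IsIntegral.of_mem_of_fg C' hfg x h2
  · right
    have key : ∀ s ∈ 𝔟, x⁻¹ * (s : L) ∈ C' := by
      intro s hs
      rw [h𝔟] at hs
      refine Submodule.span_induction (p := fun (s : C') _ => x⁻¹ * (s : L) ∈ C') ?_ ?_ ?_ ?_ hs
      · rintro _ ⟨i, rfl⟩
        show x⁻¹ * (x * Q.coeff i) ∈ C'
        rw [← mul_assoc, inv_mul_cancel₀ hx0, one_mul]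
        exact hQmem i
      · rw [ZeroMemClass.coe_zero, mul_zero]; exact C'.zero_mem
      · intro u v _ _ hu hv
        rw [Subalgebra.coe_add, mul_add]
        exact C'.add_mem hu hv
      · intro r u _ hu
        rw [smul_eq_mul, Subalgebra.coe_mul, mul_left_comm]
        exact C'.mul_mem r.2 hu
    have h1 : (1 : C') ∈ 𝔟 := by rw [h]; trivial
    have h2 := key 1 h1
    rw [OneMemClass.coe_one, mul_one] at h2
    exact IsIntegral.of_mem_of_fg C' hfg x⁻¹ h2

end Groth.Agent.H8.RigPt
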