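import Groth.Agent.Lib.Helper8.RigPt.Fin
import Groth.Agent.Lib.Helper8.RigPt.Val2

/-!
# helper8: admissible one-dimensional local domains over a complete height-one valuation ring
-/

set_option autoImplicit false
universe u

open Polynomial IsLocalRing

namespace Groth.Agent.H8.RigPt

theorem valuationRing_integralClosure (R : Type u) [CommRing R] [IsDomain R] [ValuationRing R]
    (hloc : ∀ (C : Type u) [CommRing C] [IsDomain C] [Algebra R C] [Module.Finite R C],
      IsLocalRing C)
    (B : Type u) [CommRing B] [IsDomain B] [Algebra R B] [Module.Finite R B]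
    (hinj : Function.Injective (algebraMap R B)) :
    ValuationRing (integralClosure B (FractionRing B)) := by
  haveI : Algebra.IsIntegral R B := Algebra.IsIntegral.of_finite R B
  haveI : Algebra.IsAlgebraic B (FractionRing B) :=
    IsLocalization.isAlgebraic (FractionRing B) (nonZeroDivisors B)
  haveI : Algebra.IsAlgebraic R B := Algebra.IsIntegral.isAlgebraic
  haveI : Algebra.IsAlgebraic R (FractionRing B) := Algebra.IsAlgebraic.trans R B (FractionRing B)
  haveI : IsFractionRing (integralClosure B (FractionRing B)) (FractionRing B) :=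
    integralClosure.isFractionRing_of_algebraic (fun x hx =>
      (IsFractionRing.injective B (FractionRing B)) (by rw [hx, map_zero]))
  rw [ValuationRing.iff_isInteger_or_isInteger (integralClosure B (FractionRing B))
    (FractionRing B)]
  intro x
  have hinjL : Function.Injective (algebraMap R (FractionRing B)) := by
    rw [IsScalarTower.algebraMap_eq R B (FractionRing B)]
    exact (IsFractionRing.injective B (FractionRing B)).comp hinj
  rcases isIntegral_or_inv R hloc (FractionRing B) hinjL x
    (Algebra.IsAlgebraic.isAlgebraic x) with h | h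
  · left
    exact ⟨⟨x, h.tower_top⟩, rfl⟩
  · right
    exact ⟨⟨x⁻¹, h.tower_top⟩, rfl⟩

section Base

variable (R : Type u) [CommRing R] [IsDomain R] [ValuationRing R] [Ring.KrullDimLE 1 R]
    (t : R) (ht : t ≠ 0) [IsAdicComplete (Ideal.span {t}) R]

include ht in
theorem t_mem_maximalIdeal : t ∈ maximalIdeal R := by
  have h1 : Ideal.span {t} ≤ Ideal.jacobson (⊥ : Ideal R) := IsAdicComplete.le_jacobson_bot _
  rw [IsLocalRing.jacobson_eq_maximalIdeal (⊥ : Ideal R) bot_ne_top] at h1
  exact h1 (Ideal.mem_span_singleton_self t)

include ht in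
theorem eq_maximalIdeal_of_mem (p : Ideal R) (hp : p.IsPrime) (htp : t ∈ p) :
    p = maximalIdeal R := by
  have hne : p ≠ ⊥ := by
    rintro rfl
    exact ht htp
  exact IsLocalRing.eq_maximalIdeal (hp.isMaximal_of_ne_bot hne)

include ht in
theorem isLocalRing_of_finite_domain' (C : Type u) [CommRing C] [IsDomain C] [Algebra R C]
    [Module.Finite R C] : IsLocalRing C :=
  isLocalRing_of_finite_domain R t (t_mem_maximalIdeal R t ht)
    (eq_maximalIdeal_of_mem R t ht) C

include ht in
theorem injective_algebraMap_of_ne (B : Type u) [CommRing B] [IsDomain B] [Algebra R B]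
    (htB : algebraMap R B t ≠ 0) : Function.Injective (algebraMap R B) := by
  rw [RingHom.injective_iff_ker_eq_bot]
  by_contra hne
  have hprime : (RingHom.ker (algebraMap R B)).IsPrime := RingHom.ker_isPrime _
  have hmax : RingHom.ker (algebraMap R B) = maximalIdeal R :=
    IsLocalRing.eq_maximalIdeal (hprime.isMaximal_of_ne_bot hne)
  have : t ∈ RingHom.ker (algebraMap R B) := by
    rw [hmax]; exact t_mem_maximalIdeal R t ht
  exact htB this

end Base

theorem ne_zero_of_noPowTorsion (R : Type u) [CommRing R] (t : R) (B : Type u) [CommRing B]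
    [Algebra R B] [Nontrivial B] (hnt : AdicRing.NoPowTorsion (Ideal.span {t}) B) :
    algebraMap R B t ≠ 0 := by
  intro h
  have : (1 : B) = 0 := hnt 1 1 (fun a ha => by
    rw [pow_one, Ideal.mem_span_singleton'] at ha
    obtain ⟨c, rfl⟩ := ha
    rw [Algebra.smul_def, map_mul, h, mul_zero, zero_mul])
  exact one_ne_zero this

theorem finite_and_valuationRing (R : Type u) [CommRing R] [IsDomain R] [ValuationRing R]
    [Ring.KrullDimLE 1 R] (t : R) (ht : t ≠ 0) [IsAdicComplete (Ideal.span {t}) R]
    (B : Type u) [CommRing B] [Algebra R B] [IsDomain B] [IsLocalRing B]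
    (hB : AdicRing.Admissible R (Ideal.span {t}) B) (hdim : ringKrullDim B = 1) :
    Module.Finite R B ∧ ValuationRing (integralClosure B (FractionRing B)) := by
  obtain ⟨⟨n, φ, hφ, -⟩, hnt⟩ := hB
  have htB : algebraMap R B t ≠ 0 := ne_zero_of_noPowTorsion R t B hnt
  haveI hfin : Module.Finite R B := finite_of_quotient_rPow R t ht n _
    (by rw [Ideal.map_span, Set.image_singleton]) B hdim htB φ hφ
  refine ⟨hfin, ?_⟩
  exact valuationRing_integralClosure R (fun C => isLocalRing_of_finite_domain' R t ht C) B
    (injective_algebraMap_of_ne R t ht B htB)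

end Groth.Agent.H8.RigPt
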