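import Groth.Agent.Lib.Helper8.RigPt.Adm

/-!
# helper8: principalizing a finitely generated ideal in a finite extension of a rig-point algebra
-/

set_option autoImplicit false
universe u

open Polynomial IsLocalRing

namespace Groth.Agent.H8.RigPt

theorem exists_dvd_all {V : Type*} [CommRing V] [IsDomain V] [ValuationRing V] {ι : Type*}
    (s : Finset ι) (hs : s.Nonempty) (v : ι → V) :
    ∃ i ∈ s, ∀ j ∈ s, v i ∣ v j := by
  induction hs using Finset.Nonempty.cons_induction with
  | singleton a =>
    exact ⟨a, Finset.mem_singleton_self a, fun j hj => by rw [Finset.mem_singleton.mp hj]⟩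
  | cons a s ha hs ih =>
    obtain ⟨i, his, hi⟩ := ih
    rcases ValuationRing.dvd_total (v a) (v i) with h | h
    · refine ⟨a, Finset.mem_cons_self a s, fun j hj => ?_⟩
      rcases Finset.mem_cons.mp hj with rfl | hj
      · exact dvd_rfl
      · exact h.trans (hi j hj)
    · refine ⟨i, Finset.mem_cons.mpr (Or.inr his), fun j hj => ?_⟩
      rcases Finset.mem_cons.mp hj with rfl | hj
      · exact h
      · exact hi j hj

theorem exists_principalizing (R : Type u) [CommRing R] [IsDomain R] [ValuationRing R]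
    [Ring.KrullDimLE 1 R] (t : R) (ht : t ≠ 0) [IsAdicComplete (Ideal.span {t}) R]
    (B : Type u) [CommRing B] [Algebra R B] [IsDomain B] [IsLocalRing B]
    (hB : AdicRing.Admissible R (Ideal.span {t}) B) (hdim : ringKrullDim B = 1)
    (n : ℕ) (b : Fin n → B) (hb : ∃ i, b i ≠ 0) :
    ∃ B' : Subalgebra B (FractionRing B), Module.Finite B ↥B' ∧ IsLocalRing ↥B' ∧
      ringKrullDim ↥B' = 1 ∧
      ∃ i, Ideal.span (Set.range (fun j => algebraMap B ↥B' (b j))) =
        Ideal.span {algebraMap B ↥B' (b i)} := by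
  classical
  obtain ⟨hfin, hval⟩ := finite_and_valuationRing R t ht B hB hdim
  haveI := hfin
  haveI := hval
  haveI : Algebra.IsIntegral R B := .of_finite R B
  obtain ⟨β, hβ⟩ : ∃ β : Fin n → integralClosure B (FractionRing B),
      β = fun j => ⟨algebraMap B _ (b j), isIntegral_algebraMap⟩ := ⟨_, rfl⟩
  obtain ⟨i0, hi0⟩ := hb
  obtain ⟨i, -, hi⟩ := exists_dvd_all (Finset.univ : Finset (Fin n)) ⟨i0, Finset.mem_univ _⟩ β
  choose γ hγ using fun j => hi j (Finset.mem_univ j)
  obtain ⟨c, hc⟩ : ∃ c : Fin n → FractionRing B, c = fun j => (γ j : FractionRing B) :=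
    ⟨_, rfl⟩
  have hcint : ∀ j, IsIntegral B (c j) := fun j => by rw [hc]; exact (γ j).2
  have hbc : ∀ j, algebraMap B (FractionRing B) (b j) =
      algebraMap B (FractionRing B) (b i) * c j := by
    intro j
    have := congrArg Subtype.val (hγ j)
    rw [hβ] at this
    rw [hc]
    exact this
  obtain ⟨B', hB'⟩ : ∃ B' : Subalgebra B (FractionRing B),
      B' = Algebra.adjoin B (Set.range c) := ⟨_, rfl⟩
  have hfg : (Subalgebra.toSubmodule B').FG := by
    rw [hB']
    exact fg_adjoin_of_finite (Set.finite_range c) (by rintro _ ⟨j, rfl⟩; exact hcint j)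
  haveI hfinB' : Module.Finite B B' := Module.Finite.iff_fg.mpr hfg
  have hcmem : ∀ j, c j ∈ B' := fun j => by rw [hB']; exact Algebra.subset_adjoin ⟨j, rfl⟩
  haveI : Module.Finite R B' := Module.Finite.trans B B'
  haveI hloc : IsLocalRing B' := isLocalRing_of_finite_domain' R t ht B'
  have hinj : Function.Injective (algebraMap B B') := by
    intro x y hxy
    apply IsFractionRing.injective B (FractionRing B)
    exact congrArg Subtype.val hxy
  haveI : Algebra.IsIntegral B B' := Algebra.IsIntegral.of_finite B B'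
  have hdim' : ringKrullDim B' = 1 := by
    rw [ringKrullDim_eq_of_integral_injective B B' hinj, hdim]
  refine ⟨B', hfinB', hloc, hdim', i, ?_⟩
  apply le_antisymm
  · rw [Ideal.span_le]
    rintro _ ⟨j, rfl⟩
    rw [SetLike.mem_coe, Ideal.mem_span_singleton']
    refine ⟨⟨c j, hcmem j⟩, ?_⟩
    apply Subtype.ext
    show c j * algebraMap B (FractionRing B) (b i) = algebraMap B (FractionRing B) (b j)
    rw [hbc j, mul_comm]
  · apply Ideal.span_mono
    exact Set.singleton_subset_iff.mpr ⟨i, rfl⟩

end Groth.Agent.H8.RigPt
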