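import Groth.Agent.Lib.Helper8.RigPt.Adm

/-!
# helper8: rig-points of a complete localization already come from the ring
-/

set_option autoImplicit false
universe u

open Polynomial IsLocalRing

namespace Groth.Agent.H8.RigPt

/-- if `z` is an inverse of `v a` and `z` is integral over `R`, then `z` lies in the image of `v`. -/
theorem exists_inv_of_isIntegral {R A B : Type*} [CommRing R] [CommRing A] [CommRing B]
    [Algebra R A] [Algebra R B] (v : A →ₐ[R] B) (a : A) (z : B) (hz : z * v a = 1)
    (hint : IsIntegral R z) : ∃ a₀ : A, v a₀ = z := by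
  obtain ⟨F, hFm, hF⟩ := hint
  letI : Invertible z := ⟨v a, by rw [mul_comm]; exact hz, hz⟩
  have h1 : eval₂ (algebraMap R B) (v a) (reverse F) * z ^ F.natDegree = 0 := by
    have := eval₂_reverse_mul_pow (algebraMap R B) z F
    rw [hF] at this
    exact this
  have h2 : eval₂ (algebraMap R B) (v a) (reverse F) = 0 := by
    have h3 : eval₂ (algebraMap R B) (v a) (reverse F) * z ^ F.natDegree * (v a) ^ F.natDegree
        = 0 := by rw [h1, zero_mul]
    rwa [mul_assoc, ← mul_pow, hz, one_pow, mul_one] at h3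
  have h4 : v (aeval a (reverse F)) = 0 := by
    rw [← Polynomial.aeval_algHom_apply, Polynomial.aeval_def]
    exact h2
  have h5 : aeval a (reverse F) = aeval a (divX (reverse F)) * a + 1 := by
    conv_lhs => rw [← divX_mul_X_add (reverse F)]
    rw [map_add, map_mul, aeval_X, aeval_C, coeff_zero_reverse, hFm.leadingCoeff, map_one]
  rw [h5, map_add, map_mul, map_one] at h4
  refine ⟨- aeval a (divX (reverse F)), ?_⟩
  rw [map_neg]
  have h6 : v (aeval a (divX (reverse F))) * v a = -1 := eq_neg_of_add_eq_zero_left h4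
  calc - v (aeval a (divX (reverse F))) = - v (aeval a (divX (reverse F))) * (v a * z) := by
        rw [mul_comm (v a) z, hz, mul_one]
    _ = - (v (aeval a (divX (reverse F))) * v a) * z := by ring
    _ = z := by rw [h6, neg_neg, one_mul]

theorem cloc_comp_surjective (R : Type u) [CommRing R] [IsDomain R] [ValuationRing R]
    [Ring.KrullDimLE 1 R] (t : R) (ht : t ≠ 0) [IsAdicComplete (Ideal.span {t}) R]
    (A : Type u) [CommRing A] [Algebra R A] (f : A)
    (B : Type u) [CommRing B] [Algebra R B] [IsDomain B] [IsLocalRing B]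
    (hB : AdicRing.Admissible R (Ideal.span {t}) B) (hdim : ringKrullDim B = 1)
    (u : AdicRing.CLoc (Ideal.span {t}) f →ₐ[R] B) (hu : Function.Surjective u) :
    Function.Surjective
      (u.toRingHom.comp (algebraMap A (AdicRing.CLoc (Ideal.span {t}) f))) := by
  haveI hfin : Module.Finite R B := (finite_and_valuationRing R t ht B hB hdim).1
  haveI : Algebra.IsIntegral R B := Algebra.IsIntegral.of_finite R B
  haveI : IsScalarTower R A (AdicRing.CLoc (Ideal.span {t}) f) :=
    IsScalarTower.of_algebraMap_eq (fun r => by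
      show AdicCompletion.of _ _ (algebraMap R (Localization.Away f) r) =
        AdicCompletion.of _ _ (algebraMap A (Localization.Away f) (algebraMap R A r))
      rw [← IsScalarTower.algebraMap_apply])
  haveI : IsScalarTower R (Localization.Away f) (AdicRing.CLoc (Ideal.span {t}) f) :=
    IsScalarTower.of_algebraMap_eq (fun r => rfl)
  obtain ⟨v, hv⟩ : ∃ v : A →ₐ[R] B,
      v = u.comp (IsScalarTower.toAlgHom R A (AdicRing.CLoc (Ideal.span {t}) f)) := ⟨_, rfl⟩
  have hvapp : ∀ a, v a = u (algebraMap A (AdicRing.CLoc (Ideal.span {t}) f) a) :=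
    fun a => by rw [hv]; rfl
  suffices h : Function.Surjective v by
    intro b
    obtain ⟨a, ha⟩ := h b
    exact ⟨a, by rw [← ha, hvapp]; rfl⟩
  obtain ⟨w, hw⟩ : ∃ w : Localization.Away f →ₐ[R] B,
      w = u.comp (IsScalarTower.toAlgHom R (Localization.Away f)
        (AdicRing.CLoc (Ideal.span {t}) f)) := ⟨_, rfl⟩
  have hwapp : ∀ p, w p = u (algebraMap (Localization.Away f)
      (AdicRing.CLoc (Ideal.span {t}) f) p) := fun p => by rw [hw]; rfl
  have hwv : ∀ a : A, w (algebraMap A (Localization.Away f) a) = v a := by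
    intro a
    rw [hwapp, hvapp]
    rfl
  have hunit : IsUnit (v f) := by
    rw [← hwv]
    exact (IsLocalization.Away.algebraMap_isUnit (S := Localization.Away f) f).map w
  obtain ⟨z, hz⟩ := hunit.exists_left_inv
  obtain ⟨a₀, ha₀⟩ := exists_inv_of_isIntegral v f z hz (Algebra.IsIntegral.isIntegral z)
  have hwrange : ∀ p, ∃ a, v a = w p := by
    intro p
    obtain ⟨⟨a, s⟩, hs⟩ := IsLocalization.surj (Submonoid.powers f) p
    obtain ⟨k, hk⟩ := s.2
    refine ⟨a * a₀ ^ k, ?_⟩
    have h1 : w p * v f ^ k = v a := by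
      rw [← hwv a, ← hs, map_mul, ← hk, map_pow, map_pow, hwv]
    rw [map_mul, map_pow, ← h1, ha₀, mul_assoc, ← mul_pow, mul_comm (v f), hz, one_pow, mul_one]
  -- density
  have hJ : (Ideal.span {t}).map (algebraMap R (Localization.Away f)) =
      Ideal.span {algebraMap R (Localization.Away f) t} := by
    rw [Ideal.map_span, Set.image_singleton]
  have hdens : ∀ b : B, ∃ (a : A) (b' : B), b = v a + t • b' := by
    intro b
    obtain ⟨c, rfl⟩ := hu b
    obtain ⟨p, c', h⟩ := exists_eq_add_mul (algebraMap R (Localization.Away f) t) _ hJ c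
    obtain ⟨a, ha⟩ := hwrange p
    refine ⟨a, u c', ?_⟩
    rw [h, map_add, map_mul, ha, hwapp, Algebra.smul_def]
    congr 2
    have : algebraMap (Localization.Away f) (AdicRing.CLoc (Ideal.span {t}) f)
        (algebraMap R (Localization.Away f) t) =
        algebraMap R (AdicRing.CLoc (Ideal.span {t}) f) t := rfl
    rw [this, AlgHom.commutes]
  -- Nakayama
  have hjac : Ideal.span {t} ≤ Ideal.jacobson (⊥ : Ideal R) := IsAdicComplete.le_jacobson_bot _
  have hle : (⊤ : Submodule R B) ≤ Subalgebra.toSubmodule v.range :=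
    Submodule.le_of_le_smul_of_le_jacobson_bot (Module.Finite.fg_top) hjac (by
      intro b _
      obtain ⟨a, b', h⟩ := hdens b
      rw [h]
      refine Submodule.add_mem_sup ⟨a, rfl⟩ ?_
      exact Submodule.smul_mem_smul (Ideal.mem_span_singleton_self t) Submodule.mem_top)
  intro b
  obtain ⟨a, ha⟩ := hle (Submodule.mem_top : b ∈ ⊤)
  exact ⟨a, ha⟩

end Groth.Agent.H8.RigPt
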