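import Groth.Agent.Lib.Helper8.RigPt.Basic

/-!
# helper8: a one-dimensional local domain quotient of `R⟨ζ⟩` is finite over `R`
-/

set_option autoImplicit false
universe u

open Polynomial IsLocalRing

namespace Groth.Agent.H8.RigPt

theorem finite_of_quotient_rPow (R : Type u) [CommRing R] [IsDomain R] [Ring.KrullDimLE 1 R]
    (t : R) (ht : t ≠ 0) [IsAdicComplete (Ideal.span {t}) R]
    (n : ℕ) (J : Ideal (MvPolynomial (Fin n) R))
    (hJ : J = Ideal.span {(MvPolynomial.C t : MvPolynomial (Fin n) R)})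
    (B : Type u) [CommRing B] [Algebra R B] [IsDomain B] [IsLocalRing B]
    (hdim : ringKrullDim B = 1) (htB : algebraMap R B t ≠ 0)
    (φ : AdicCompletion J (MvPolynomial (Fin n) R) →ₐ[R] B) (hφ : Function.Surjective φ) :
    Module.Finite R B := by
  classical
  haveI : IsScalarTower R (MvPolynomial (Fin n) R) (AdicCompletion J (MvPolynomial (Fin n) R)) :=
    IsScalarTower.of_algebraMap_eq (fun r => rfl)
  have hdens : ∀ a : AdicCompletion J (MvPolynomial (Fin n) R), ∃ (p : MvPolynomial (Fin n) R)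
      (a' : AdicCompletion J (MvPolynomial (Fin n) R)),
      a = algebraMap (MvPolynomial (Fin n) R) _ p + algebraMap R _ t * a' := by
    intro a
    obtain ⟨p, a', h⟩ := exists_eq_add_mul (MvPolynomial.C t) J hJ a
    exact ⟨p, a', h⟩
  obtain ⟨g, hg⟩ : ∃ g : MvPolynomial (Fin n) R →ₐ[R] B,
      g = φ.comp (IsScalarTower.toAlgHom R (MvPolynomial (Fin n) R)
        (AdicCompletion J (MvPolynomial (Fin n) R))) := ⟨_, rfl⟩
  have hgp : ∀ p, g p = φ (algebraMap (MvPolynomial (Fin n) R) _ p) := by
    intro p; rw [hg]; rfl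
  have hdensB : ∀ b : B, ∃ (p : MvPolynomial (Fin n) R) (b' : B),
      b = g p + algebraMap R B t * b' := by
    intro b
    obtain ⟨a, rfl⟩ := hφ b
    obtain ⟨p, a', h⟩ := hdens a
    refine ⟨p, φ a', ?_⟩
    rw [h, map_add, map_mul, AlgHom.commutes, hgp]
  -- (1a) t lies in the maximal ideal of B
  have hJfg : J.FG := by rw [hJ]; exact ⟨{MvPolynomial.C t}, by simp⟩
  have hjac : algebraMap R (AdicCompletion J (MvPolynomial (Fin n) R)) t ∈
      Ideal.jacobson (⊥ : Ideal (AdicCompletion J (MvPolynomial (Fin n) R))) := by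
    apply CT.map_le_jacobson J hJfg
    have : algebraMap R (AdicCompletion J (MvPolynomial (Fin n) R)) t =
        algebraMap (MvPolynomial (Fin n) R) _ (MvPolynomial.C t) := rfl
    rw [this]
    apply Ideal.mem_map_of_mem
    rw [hJ]
    exact Ideal.mem_span_singleton_self _
  have htm : algebraMap R B t ∈ maximalIdeal B := by
    rw [← IsLocalRing.jacobson_eq_maximalIdeal (⊥ : Ideal B) bot_ne_top, Ideal.mem_jacobson_bot]
    intro y
    obtain ⟨a, rfl⟩ := hφ y
    have h1 := (Ideal.mem_jacobson_bot.mp hjac a).map φ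
    rwa [map_add, map_mul, map_one, AlgHom.commutes] at h1
  -- (1c) radical
  have hrad : ∀ x : B, x ≠ 0 → maximalIdeal B ≤ Ideal.radical (Ideal.span {x}) :=
    (ringKrullDim_eq_one_iff_of_isLocalRing_isDomain.mp hdim).2
  -- (1b) residue field integral over R
  letI : Field (B ⧸ maximalIdeal B) := Ideal.Quotient.field _
  obtain ⟨f, hf⟩ : ∃ f : MvPolynomial (Fin n) R →ₐ[R] (B ⧸ maximalIdeal B),
      f = (Ideal.Quotient.mkₐ R (maximalIdeal B)).comp g := ⟨_, rfl⟩
  have hfp : ∀ p, f p = Ideal.Quotient.mk (maximalIdeal B) (g p) := by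
    intro p; rw [hf]; rfl
  have hmt : Ideal.Quotient.mk (maximalIdeal B) (algebraMap R B t) = 0 :=
    Ideal.Quotient.eq_zero_iff_mem.mpr htm
  have htK : algebraMap R (B ⧸ maximalIdeal B) t = 0 := hmt
  have hfsurj : Function.Surjective f := by
    intro y
    obtain ⟨b, rfl⟩ := Ideal.Quotient.mk_surjective y
    obtain ⟨p, b', h⟩ := hdensB b
    refine ⟨p, ?_⟩
    rw [hfp, h, map_add, map_mul, hmt, zero_mul, add_zero]
  haveI : Algebra.FiniteType R (B ⧸ maximalIdeal B) := Algebra.FiniteType.of_surjective f hfsurj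
  haveI hint : Algebra.IsIntegral R (B ⧸ maximalIdeal B) :=
    isIntegral_of_finiteType_field R t ht _ htK
  -- (1d) B / tB finite over R
  obtain ⟨g', hg'⟩ : ∃ g' : MvPolynomial (Fin n) R →ₐ[R] (B ⧸ Ideal.span {algebraMap R B t}),
      g' = (Ideal.Quotient.mkₐ R (Ideal.span {algebraMap R B t})).comp g := ⟨_, rfl⟩
  have hg'p : ∀ p, g' p = Ideal.Quotient.mk (Ideal.span {algebraMap R B t}) (g p) := by
    intro p; rw [hg']; rfl
  have hmt' : Ideal.Quotient.mk (Ideal.span {algebraMap R B t}) (algebraMap R B t) = 0 :=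
    Ideal.Quotient.eq_zero_iff_mem.mpr (Ideal.mem_span_singleton_self _)
  have hg'surj : Function.Surjective g' := by
    intro y
    obtain ⟨b, rfl⟩ := Ideal.Quotient.mk_surjective y
    obtain ⟨p, b', h⟩ := hdensB b
    refine ⟨p, ?_⟩
    rw [hg'p, h, map_add, map_mul, hmt', zero_mul, add_zero]
  have hXint : ∀ i : Fin n, IsIntegral R (g' (MvPolynomial.X i)) := by
    intro i
    obtain ⟨F, hFmonic, hF⟩ := hint.isIntegral (f (MvPolynomial.X i))
    have h1 : aeval (g (MvPolynomial.X i)) F ∈ maximalIdeal B := by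
      rw [← Ideal.Quotient.eq_zero_iff_mem]
      have h2 : Ideal.Quotient.mk (maximalIdeal B) (aeval (g (MvPolynomial.X i)) F) =
          aeval (f (MvPolynomial.X i)) F := by
        rw [hfp]
        exact (Polynomial.aeval_algHom_apply (Ideal.Quotient.mkₐ R (maximalIdeal B))
          (g (MvPolynomial.X i)) F).symm
      rw [h2, Polynomial.aeval_def]
      exact hF
    obtain ⟨N, hN⟩ := hrad _ htB h1
    refine ⟨F ^ N, hFmonic.pow N, ?_⟩
    rw [← Polynomial.aeval_def, hg'p]
    have h3 : aeval (Ideal.Quotient.mk (Ideal.span {algebraMap R B t}) (g (MvPolynomial.X i)))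
        (F ^ N) = Ideal.Quotient.mk (Ideal.span {algebraMap R B t})
          (aeval (g (MvPolynomial.X i)) (F ^ N)) :=
      Polynomial.aeval_algHom_apply (Ideal.Quotient.mkₐ R (Ideal.span {algebraMap R B t}))
        (g (MvPolynomial.X i)) (F ^ N)
    rw [h3, map_pow, Ideal.Quotient.eq_zero_iff_mem]
    exact hN
  have hallint : ∀ p : MvPolynomial (Fin n) R, IsIntegral R (g' p) := by
    intro p
    induction p using MvPolynomial.induction_on with
    | C r =>
      rw [← MvPolynomial.algebraMap_eq, AlgHom.commutes]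
      exact isIntegral_algebraMap
    | add p q hp hq =>
      rw [map_add]; exact hp.add hq
    | mul_X p i hp =>
      rw [map_mul]; exact hp.mul (hXint i)
  haveI : Algebra.IsIntegral R (B ⧸ Ideal.span {algebraMap R B t}) :=
    ⟨fun y => by obtain ⟨p, rfl⟩ := hg'surj y; exact hallint p⟩
  haveI : Algebra.FiniteType R (B ⧸ Ideal.span {algebraMap R B t}) :=
    Algebra.FiniteType.of_surjective g' hg'surj
  haveI hQfin : Module.Finite R (B ⧸ Ideal.span {algebraMap R B t}) := Algebra.IsIntegral.finite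
  -- (1e) B is Hausdorff
  haveI hhaus : IsHausdorff (Ideal.span {t}) B := by
    refine ⟨fun x hx => ?_⟩
    by_contra hx0
    obtain ⟨N, hN⟩ := hrad x hx0 htm
    rw [Ideal.mem_span_singleton'] at hN
    obtain ⟨c, hc⟩ := hN
    have h1 := hx (N + 1)
    rw [SModEq.zero, Ideal.span_singleton_pow, Submodule.ideal_span_singleton_smul,
      Submodule.mem_smul_pointwise_iff_exists] at h1
    obtain ⟨y, -, hy⟩ := h1
    rw [Algebra.smul_def, map_pow] at hy
    have h2 : x * (1 - algebraMap R B t * (c * y)) = 0 := by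
      have : x = algebraMap R B t * (c * x) * y := by
        rw [hc, ← pow_succ', hy]
      calc x * (1 - algebraMap R B t * (c * y)) = x - algebraMap R B t * (c * x) * y := by ring
        _ = 0 := by rw [← this, sub_self]
    rcases mul_eq_zero.mp h2 with h | h
    · exact hx0 h
    · have h3 : algebraMap R B t * (c * y) = 1 := (sub_eq_zero.mp h).symm
      have h4 : IsUnit (algebraMap R B t) := IsUnit.of_mul_eq_one _ h3
      exact (IsLocalRing.mem_maximalIdeal _).mp htm h4
  -- (1f) complete Nakayama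
  obtain ⟨d, s, hs⟩ := Module.Finite.exists_fin (R := R) (M := B ⧸ Ideal.span {algebraMap R B t})
  have hb : ∀ i : Fin d, ∃ b : B, Ideal.Quotient.mk (Ideal.span {algebraMap R B t}) b = s i :=
    fun i => Ideal.Quotient.mk_surjective (s i)
  choose b hb using hb
  have key : ∀ y : B, ∃ c : Fin d → R,
      y - Fintype.linearCombination R b c ∈ (Ideal.span {t} • ⊤ : Submodule R B) := by
    intro y
    have h1 : Ideal.Quotient.mk (Ideal.span {algebraMap R B t}) y ∈
        Submodule.span R (Set.range s) := by rw [hs]; trivial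
    rw [Submodule.mem_span_range_iff_exists_fun] at h1
    obtain ⟨c, hc⟩ := h1
    refine ⟨c, ?_⟩
    rw [Ideal.smul_top_eq_map, Submodule.restrictScalars_mem, Ideal.map_span, Set.image_singleton,
      ← Ideal.Quotient.eq_zero_iff_mem, map_sub, ← hc, Fintype.linearCombination_apply, map_sum]
    rw [sub_eq_zero]
    refine Finset.sum_congr rfl fun i _ => ?_
    rw [← hb i]
    rfl
  have hsurj : Function.Surjective
      ((Ideal.span {t} • ⊤ : Submodule R B).mkQ ∘ₗ Fintype.linearCombination R b) := by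
    intro z
    obtain ⟨y, rfl⟩ := Submodule.mkQ_surjective _ z
    obtain ⟨c, hc⟩ := key y
    refine ⟨c, ?_⟩
    rw [LinearMap.comp_apply, Submodule.mkQ_apply, Submodule.mkQ_apply, eq_comm,
      Submodule.Quotient.eq]
    exact hc
  haveI : IsPrecomplete (Ideal.span {t}) (Fin d → R) :=
    (isAdicComplete_of_basis (Pi.basisFun R (Fin d)) (Ideal.span {t})).toIsPrecomplete
  have hFsurj := surjective_of_mkQ_comp_surjective hsurj
  exact Module.Finite.of_surjective (Fintype.linearCombination R b) hFsurj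

end Groth.Agent.H8.RigPt
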