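import Groth.Agent.Lib.Helper8.RigPt.Adm

/-!
# helper8: images of admissible algebras in rig-points
-/

set_option autoImplicit false
universe u

open Polynomial IsLocalRing

namespace Groth.Agent.H8.RigPt

/-- complete Nakayama for ideals: if `K₀ ≤ K`, `K₀` is finitely generated and `K ≤ K₀ + 𝔞 K` in an
`𝔞`-adically complete ring then `K = K₀`. -/
theorem ideal_eq_of_le_sup_mul {A : Type u} [CommRing A] (𝔞 : Ideal A) [IsAdicComplete 𝔞 A]
    (K K₀ : Ideal A) (hK₀ : K₀.FG) (hle : K₀ ≤ K) (h : K ≤ K₀ ⊔ 𝔞 * K) : K = K₀ := by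
  classical
  obtain ⟨s, hs⟩ := hK₀
  have hsK : ∀ i : s, (i : A) ∈ K := fun i => hle (hs ▸ Ideal.subset_span i.2)
  obtain ⟨k, hk⟩ : ∃ k : s → K, k = fun i => ⟨(i : A), hsK i⟩ := ⟨_, rfl⟩
  have hmap : ∀ n : ℕ, Submodule.map K.subtype (𝔞 ^ n • (⊤ : Submodule A K)) = 𝔞 ^ n • K := by
    intro n
    rw [Submodule.map_smul'', Submodule.map_subtype_top]
  haveI : IsHausdorff 𝔞 K := by
    refine ⟨fun x hx => ?_⟩
    apply Subtype.ext
    rw [ZeroMemClass.coe_zero]
    refine IsHausdorff.haus' (I := 𝔞) _ fun n => ?_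
    have h1 := hx n
    rw [SModEq.zero] at h1 ⊢
    have h2 : (x : A) ∈ Submodule.map K.subtype (𝔞 ^ n • (⊤ : Submodule A K)) :=
      ⟨x, h1, rfl⟩
    rw [hmap] at h2
    exact Submodule.smul_mono le_rfl le_top h2
  haveI : IsPrecomplete 𝔞 (s → A) :=
    (isAdicComplete_of_basis (Pi.basisFun A s) 𝔞).toIsPrecomplete
  have hsum : ∀ c : s → A,
      ((Fintype.linearCombination A k c : K) : A) = ∑ i, c i • (i : A) := by
    intro c
    rw [Fintype.linearCombination_apply]
    have : (K.subtype) (∑ i, c i • k i) = ∑ i, c i • (i : A) := by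
      rw [map_sum]
      refine Finset.sum_congr rfl fun i _ => ?_
      rw [map_smul, hk]
      rfl
    exact this
  have hsurj : Function.Surjective
      ((𝔞 • ⊤ : Submodule A K).mkQ ∘ₗ Fintype.linearCombination A k) := by
    intro z
    obtain ⟨x, rfl⟩ := Submodule.mkQ_surjective _ z
    obtain ⟨y, hy, z, hz, hyz⟩ := Submodule.mem_sup.mp (h x.2)
    rw [← hs, ← Subtype.range_coe (s := (s : Set A))] at hy
    obtain ⟨c, hc⟩ := (Submodule.mem_span_range_iff_exists_fun A).mp hy
    have hz' : z ∈ Submodule.map K.subtype (𝔞 ^ 1 • (⊤ : Submodule A K)) := by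
      rw [hmap, pow_one]; exact hz
    obtain ⟨w, hw, hwz⟩ := hz'
    have hwz' : (w : A) = z := hwz
    rw [pow_one] at hw
    refine ⟨c, ?_⟩
    rw [LinearMap.comp_apply, Submodule.mkQ_apply, Submodule.mkQ_apply, eq_comm,
      Submodule.Quotient.eq]
    have : x - Fintype.linearCombination A k c = w := by
      apply Subtype.ext
      rw [AddSubgroupClass.coe_sub, hsum, hwz', ← hyz, ← hc]
      exact add_sub_cancel_left _ _
    rw [this]
    exact hw
  have hF := surjective_of_mkQ_comp_surjective hsurj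
  apply le_antisymm _ hle
  intro x hx
  obtain ⟨c, hc⟩ := hF ⟨x, hx⟩
  have h1 : x = ∑ i, c i • (i : A) := by
    have h0 : ((Fintype.linearCombination A k c : K) : A) = x := congrArg Subtype.val hc
    rw [hsum] at h0
    exact h0.symm
  rw [h1, ← hs]
  exact Submodule.sum_mem _ fun i _ => Submodule.smul_mem _ _ (Ideal.subset_span i.2)


/-- the kernel of a surjection from restricted power series onto a finite, finitely presented
`R`-algebra is finitely generated. -/
theorem ker_fg_of_finite (R : Type u) [CommRing R] (t : R) [IsAdicComplete (Ideal.span {t}) R]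
    (n : ℕ) (J : Ideal (MvPolynomial (Fin n) R))
    (hJ : J = Ideal.span {(MvPolynomial.C t : MvPolynomial (Fin n) R)})
    (C' : Type u) [CommRing C'] [Algebra R C'] [Module.Finite R C']
    [Algebra.FinitePresentation R C']
    (Φ : AdicCompletion J (MvPolynomial (Fin n) R) →ₐ[R] C') (hΦsurj : Function.Surjective Φ) :
    (RingHom.ker Φ.toRingHom).FG := by
  classical
  haveI : IsScalarTower R (MvPolynomial (Fin n) R) (AdicCompletion J (MvPolynomial (Fin n) R)) :=
    IsScalarTower.of_algebraMap_eq (fun r => rfl)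
  have hdens : ∀ a : AdicCompletion J (MvPolynomial (Fin n) R), ∃ (p : MvPolynomial (Fin n) R)
      (a' : AdicCompletion J (MvPolynomial (Fin n) R)),
      a = algebraMap (MvPolynomial (Fin n) R) _ p + algebraMap R _ t * a' := by
    intro a
    obtain ⟨p, a', h⟩ := exists_eq_add_mul (MvPolynomial.C t) J hJ a
    exact ⟨p, a', h⟩
  obtain ⟨g, hg⟩ : ∃ g : MvPolynomial (Fin n) R →ₐ[R] C',
      g = Φ.comp (IsScalarTower.toAlgHom R (MvPolynomial (Fin n) R)
        (AdicCompletion J (MvPolynomial (Fin n) R))) := ⟨_, rfl⟩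
  have hgp : ∀ p, g p = Φ (algebraMap (MvPolynomial (Fin n) R) _ p) := by
    intro p; rw [hg]; rfl
  have hjac : Ideal.span {t} ≤ Ideal.jacobson (⊥ : Ideal R) := IsAdicComplete.le_jacobson_bot _
  have hgsurj : Function.Surjective g := by
    have hle : (⊤ : Submodule R C') ≤ Subalgebra.toSubmodule g.range :=
      Submodule.le_of_le_smul_of_le_jacobson_bot Module.Finite.fg_top hjac (by
        intro c _
        obtain ⟨a, rfl⟩ := hΦsurj c
        obtain ⟨p, a', h⟩ := hdens a
        rw [h, map_add, map_mul, AlgHom.commutes, ← hgp, ← Algebra.smul_def]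
        exact Submodule.add_mem_sup ⟨p, rfl⟩
          (Submodule.smul_mem_smul (Ideal.mem_span_singleton_self t) Submodule.mem_top))
    intro c
    obtain ⟨p, hp⟩ := hle (Submodule.mem_top : c ∈ ⊤)
    exact ⟨p, hp⟩
  have h𝔟 : (RingHom.ker g.toRingHom).FG :=
    Algebra.FinitePresentation.ker_fG_of_surjective g hgsurj
  have hJfg : J.FG := by rw [hJ]; exact ⟨{MvPolynomial.C t}, by simp⟩
  haveI hcomp : IsAdicComplete (J.map (algebraMap (MvPolynomial (Fin n) R)
      (AdicCompletion J (MvPolynomial (Fin n) R)))) (AdicCompletion J (MvPolynomial (Fin n) R)) :=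
    CT.isAdicComplete_map J hJfg
  have hK₀fg : ((RingHom.ker g.toRingHom).map (algebraMap (MvPolynomial (Fin n) R)
      (AdicCompletion J (MvPolynomial (Fin n) R)))).FG := h𝔟.map _
  have hK₀le : (RingHom.ker g.toRingHom).map (algebraMap (MvPolynomial (Fin n) R)
      (AdicCompletion J (MvPolynomial (Fin n) R))) ≤ RingHom.ker Φ.toRingHom := by
    rw [Ideal.map_le_iff_le_comap]
    intro p hp
    rw [Ideal.mem_comap, RingHom.mem_ker]
    show Φ (algebraMap _ _ p) = 0
    rw [← hgp]
    exact hp
  have hKle : RingHom.ker Φ.toRingHom ≤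
      (RingHom.ker g.toRingHom).map (algebraMap (MvPolynomial (Fin n) R)
        (AdicCompletion J (MvPolynomial (Fin n) R))) ⊔
      J.map (algebraMap (MvPolynomial (Fin n) R) (AdicCompletion J (MvPolynomial (Fin n) R))) *
        RingHom.ker Φ.toRingHom := by
    intro a ha
    have ha' : Φ a = 0 := ha
    obtain ⟨p, a₁, h⟩ := hdens a
    obtain ⟨p₁, hp₁⟩ := hgsurj (Φ a₁)
    have h0 : Φ a = g p + algebraMap R C' t * Φ a₁ := by
      rw [h, map_add, map_mul, AlgHom.commutes, hgp]
    have h1 : g (p + MvPolynomial.C t * p₁) = 0 := by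
      rw [map_add, map_mul, hp₁, ← MvPolynomial.algebraMap_eq, AlgHom.commutes, ← h0]
      exact ha'
    have h2 : a = algebraMap (MvPolynomial (Fin n) R) _ (p + MvPolynomial.C t * p₁) +
        algebraMap (MvPolynomial (Fin n) R) (AdicCompletion J (MvPolynomial (Fin n) R))
          (MvPolynomial.C t) * (a₁ - algebraMap (MvPolynomial (Fin n) R) _ p₁) := by
      have h3 : algebraMap R (AdicCompletion J (MvPolynomial (Fin n) R)) t =
        algebraMap (MvPolynomial (Fin n) R) _ (MvPolynomial.C t) := rfl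
      rw [h, map_add, map_mul, h3]
      ring
    rw [h2]
    refine Ideal.add_mem _ (Ideal.mem_sup_left (Ideal.mem_map_of_mem _ h1))
      (Ideal.mem_sup_right (Ideal.mul_mem_mul ?_ ?_))
    · exact Ideal.mem_map_of_mem _ (by rw [hJ]; exact Ideal.mem_span_singleton_self _)
    · rw [RingHom.mem_ker]
      show Φ (a₁ - algebraMap _ _ p₁) = 0
      rw [map_sub, ← hgp, hp₁, sub_self]
  have hKeq := ideal_eq_of_le_sup_mul _ (RingHom.ker Φ.toRingHom) _ hK₀fg hK₀le hKle
  rw [hKeq]
  exact hK₀fg

theorem image_admissible (R : Type u) [CommRing R] [IsDomain R] [ValuationRing R]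
    [Ring.KrullDimLE 1 R] (t : R) (ht : t ≠ 0) [IsAdicComplete (Ideal.span {t}) R]
    (A : Type u) [CommRing A] [Algebra R A] (hA : AdicRing.Admissible R (Ideal.span {t}) A)
    (B' : Type u) [CommRing B'] [Algebra R B'] [IsDomain B'] [IsLocalRing B']
    (hB' : AdicRing.Admissible R (Ideal.span {t}) B') (hdim : ringKrullDim B' = 1)
    (ψ : A →ₐ[R] B') :
    AdicRing.Admissible R (Ideal.span {t}) ψ.range ∧ IsLocalRing ψ.range ∧
      ringKrullDim ψ.range = 1 := by
  haveI hfinB : Module.Finite R B' := (finite_and_valuationRing R t ht B' hB' hdim).1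
  haveI : Algebra.IsIntegral R B' := Algebra.IsIntegral.of_finite R B'
  have htB : algebraMap R B' t ≠ 0 := ne_zero_of_noPowTorsion R t B' hB'.2
  haveI : Algebra.IsIntegral ψ.range B' := Algebra.IsIntegral.tower_top (R := R)
  have hinjC : Function.Injective (algebraMap ψ.range B') := Subtype.val_injective
  haveI hloc : IsLocalRing ψ.range := by
    have hmax0 : ((maximalIdeal B').comap (algebraMap ψ.range B')).IsMaximal :=
      Ideal.isMaximal_comap_of_isIntegral_of_isMaximal _
    refine IsLocalRing.of_unique_max_ideal ⟨_, hmax0, fun M hM => ?_⟩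
    haveI := hM
    obtain ⟨Q, hQmax, hQ⟩ := Ideal.exists_ideal_over_maximal_of_isIntegral (S := B') M (by
      rw [(RingHom.injective_iff_ker_eq_bot _).mp hinjC]; exact bot_le)
    rw [← hQ, IsLocalRing.eq_maximalIdeal hQmax]
  have hdimC : ringKrullDim ψ.range = 1 := by
    rw [← ringKrullDim_eq_of_integral_injective ψ.range B' hinjC, hdim]
  have htC : algebraMap R ψ.range t ≠ 0 := by
    intro h
    apply htB
    have := congrArg (algebraMap ψ.range B') h
    rwa [← IsScalarTower.algebraMap_apply, map_zero] at this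
  have hnt : AdicRing.NoPowTorsion (Ideal.span {t}) ψ.range := by
    intro x k hx
    have h1 := hx (t ^ k) (Ideal.pow_mem_pow (Ideal.mem_span_singleton_self t) k)
    rw [Algebra.smul_def] at h1
    rcases mul_eq_zero.mp h1 with h | h
    · rw [map_pow] at h
      exact absurd h (pow_ne_zero k htC)
    · exact h
  obtain ⟨n, φA, hφA, -⟩ := hA.1
  obtain ⟨Φ, hΦ⟩ : ∃ Φ : AdicRing.RPow R (Ideal.span {t}) n →ₐ[R] ψ.range,
      Φ = ψ.rangeRestrict.comp φA := ⟨_, rfl⟩
  have hΦsurj : Function.Surjective Φ := by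
    rw [hΦ]
    exact (AlgHom.rangeRestrict_surjective ψ).comp hφA
  have hJ : (Ideal.span {t}).map (MvPolynomial.C : R →+* MvPolynomial (Fin n) R) =
      Ideal.span {MvPolynomial.C t} := by rw [Ideal.map_span, Set.image_singleton]
  haveI hfinC : Module.Finite R ψ.range :=
    finite_of_quotient_rPow R t ht n _ hJ ψ.range hdimC htC Φ hΦsurj
  have hinjRC : Function.Injective (algebraMap R ψ.range) :=
    injective_algebraMap_of_ne R t ht ψ.range htC
  haveI : Module.Flat R ψ.range := by
    rw [Module.Flat.flat_iff_torsion_eq_bot_of_isBezout, eq_bot_iff]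
    intro x hx
    rw [Submodule.mem_torsion_iff] at hx
    obtain ⟨⟨r, hr⟩, hrx⟩ := hx
    rw [Submodule.mem_bot]
    have hr0 : r ≠ 0 := nonZeroDivisors.ne_zero hr
    have h1 : algebraMap R ψ.range r * x = 0 := by
      rw [← Algebra.smul_def]; exact hrx
    rcases mul_eq_zero.mp h1 with h | h
    · exact absurd ((injective_iff_map_eq_zero _).mp hinjRC r h) hr0
    · exact h
  haveI : Module.Free R ψ.range := Module.free_of_flat_of_isLocalRing
  haveI : Module.FinitePresentation R ψ.range := Module.finitePresentation_of_projective R _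
  haveI : Algebra.FinitePresentation R ψ.range :=
    Algebra.FinitePresentation.of_finitePresentation R _
  have hker := ker_fg_of_finite R t n _ hJ ψ.range Φ hΦsurj
  exact ⟨⟨⟨n, Φ, hΦsurj, hker⟩, hnt⟩, hloc, hdimC⟩

end Groth.Agent.H8.RigPt
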