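import Groth.Agent.Lib.Helper8.RigPt.Basic

/-!
# helper8: closed points of the special fibre of the formal affine space lift to rig-points
-/

set_option autoImplicit false
universe u

namespace Groth.Agent.H8.RigPt

theorem main_aux (R : Type u) [CommRing R] [IsDomain R] [Ring.KrullDimLE 1 R]
    (t : R) (ht : t ≠ 0) [IsAdicComplete (Ideal.span {t}) R]
    (n : ℕ) (J : Ideal (MvPolynomial (Fin n) R))
    (hJ : J = Ideal.span {(MvPolynomial.C t : MvPolynomial (Fin n) R)})
    (m : Ideal (AdicCompletion J (MvPolynomial (Fin n) R))) [hmax : m.IsMaximal]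
    (hm : algebraMap R (AdicCompletion J (MvPolynomial (Fin n) R)) t ∈ m) :
    ∃ p : Ideal (AdicCompletion J (MvPolynomial (Fin n) R)), p.IsPrime ∧ p ≤ m ∧
      algebraMap R (AdicCompletion J (MvPolynomial (Fin n) R)) t ∉ p ∧
      ringKrullDim (AdicCompletion J (MvPolynomial (Fin n) R) ⧸ p) = 1 := by
  classical
  haveI : IsScalarTower R (MvPolynomial (Fin n) R) (AdicCompletion J (MvPolynomial (Fin n) R)) :=
    IsScalarTower.of_algebraMap_eq (fun r => rfl)
  -- density
  have hdens : ∀ a : AdicCompletion J (MvPolynomial (Fin n) R), ∃ (p : MvPolynomial (Fin n) R)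
      (a' : AdicCompletion J (MvPolynomial (Fin n) R)),
      a = algebraMap (MvPolynomial (Fin n) R) _ p + algebraMap R _ t * a' := by
    intro a
    obtain ⟨p, a', h⟩ := exists_eq_add_mul (MvPolynomial.C t) J hJ a
    exact ⟨p, a', h⟩
  letI : Field (AdicCompletion J (MvPolynomial (Fin n) R) ⧸ m) := Ideal.Quotient.field m
  obtain ⟨f, hf⟩ : ∃ f : MvPolynomial (Fin n) R →ₐ[R]
      (AdicCompletion J (MvPolynomial (Fin n) R) ⧸ m),
      f = (Ideal.Quotient.mkₐ R m).comp (IsScalarTower.toAlgHom R (MvPolynomial (Fin n) R)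
        (AdicCompletion J (MvPolynomial (Fin n) R))) := ⟨_, rfl⟩
  have hfp : ∀ p, f p = Ideal.Quotient.mk m (algebraMap (MvPolynomial (Fin n) R) _ p) := by
    intro p
    rw [hf]
    rfl
  have hmt : Ideal.Quotient.mk m (algebraMap R _ t) = 0 := Ideal.Quotient.eq_zero_iff_mem.mpr hm
  have htK : algebraMap R (AdicCompletion J (MvPolynomial (Fin n) R) ⧸ m) t = 0 := hmt
  have hmk : ∀ a p a', a = algebraMap (MvPolynomial (Fin n) R) _ p + algebraMap R _ t * a' →
      Ideal.Quotient.mk m a = f p := by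
    intro a p a' h
    rw [h, map_add, map_mul, hfp, hmt, zero_mul, add_zero]
  have hfsurj : Function.Surjective f := by
    intro y
    obtain ⟨a, rfl⟩ := Ideal.Quotient.mk_surjective y
    obtain ⟨p, a', h⟩ := hdens a
    exact ⟨p, (hmk a p a' h).symm⟩
  haveI : Algebra.FiniteType R (AdicCompletion J (MvPolynomial (Fin n) R) ⧸ m) :=
    Algebra.FiniteType.of_surjective f hfsurj
  haveI hint : Algebra.IsIntegral R (AdicCompletion J (MvPolynomial (Fin n) R) ⧸ m) :=
    isIntegral_of_finiteType_field R t ht _ htK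
  obtain ⟨B, _, _, _, _, ψ, hψ⟩ := exists_finite_free R
    (AdicCompletion J (MvPolynomial (Fin n) R) ⧸ m)
    (List.ofFn (fun i : Fin n => f (MvPolynomial.X i)))
    (fun x _ => Algebra.IsIntegral.isIntegral x)
  have hb : ∀ i : Fin n, ∃ b : B, ψ b = f (MvPolynomial.X i) := by
    intro i
    obtain ⟨b, hb⟩ := hψ _ ((List.mem_ofFn' _ _).mpr ⟨i, rfl⟩)
    exact ⟨b, hb⟩
  choose b hb using hb
  haveI : IsAdicComplete (Ideal.span {t}) B := isAdicComplete_of_free_finite R B _
  obtain ⟨φ, hφ⟩ := exists_lift t J (hJ.trans (by rw [MvPolynomial.algebraMap_eq])) B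
    (MvPolynomial.aeval b)
  have hψθ : ψ.comp (MvPolynomial.aeval b) = f := by
    apply MvPolynomial.algHom_ext
    intro i
    rw [AlgHom.comp_apply, MvPolynomial.aeval_X, hb]
  have hψφ : ∀ a, ψ (φ a) = Ideal.Quotient.mk m a := by
    intro a
    obtain ⟨p, a', h⟩ := hdens a
    rw [hmk a p a' h]
    rw [h, map_add, map_mul, hφ, AlgHom.commutes, map_add, map_mul, AlgHom.commutes, htK,
      zero_mul, add_zero]
    exact AlgHom.congr_fun hψθ p
  -- going down
  haveI hQ : (RingHom.ker ψ.toRingHom).IsPrime := RingHom.ker_isPrime _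
  obtain ⟨P', hP'Q, hP'prime, hP'over⟩ := Ideal.exists_ideal_le_liesOver_of_le
    (p := (⊥ : Ideal R)) (q := (RingHom.ker ψ.toRingHom).under R)
    (RingHom.ker ψ.toRingHom) bot_le
  have hunder : P'.under R = ⊥ := (hP'over.over).symm
  have hmemP' : ∀ r : R, algebraMap R B r ∈ P' → r = 0 := by
    intro r hr
    have h1 : r ∈ P'.under R := hr
    rw [hunder] at h1
    exact h1
  haveI hpprime : (P'.comap φ).IsPrime := hP'prime.comap _
  refine ⟨P'.comap φ, hpprime, ?_, ?_, ?_⟩
  · intro x hx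
    have h1 : φ x ∈ P' := hx
    have h2 : ψ (φ x) = 0 := hP'Q h1
    rw [hψφ] at h2
    exact Ideal.Quotient.eq_zero_iff_mem.mp h2
  · intro h
    have h1 : φ (algebraMap R _ t) ∈ P' := h
    rw [AlgHom.commutes] at h1
    exact ht (hmemP' t h1)
  · have hg : Function.Injective (Ideal.quotientMapₐ P' φ (le_refl (P'.comap φ))) := by
      rw [injective_iff_map_eq_zero]
      intro x hx
      obtain ⟨a, rfl⟩ := Ideal.Quotient.mk_surjective x
      rw [Ideal.quotient_map_mkₐ, Ideal.Quotient.mkₐ_eq_mk, Ideal.Quotient.eq_zero_iff_mem] at hx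
      exact Ideal.Quotient.eq_zero_iff_mem.mpr hx
    haveI : Module.Finite R (B ⧸ P') :=
      Module.Finite.of_surjective (Ideal.Quotient.mkₐ R P').toLinearMap
        Ideal.Quotient.mk_surjective
    haveI : Algebra.IsIntegral R (B ⧸ P') := Algebra.IsIntegral.of_finite R _
    haveI : Algebra.IsIntegral R (AdicCompletion J (MvPolynomial (Fin n) R) ⧸ P'.comap φ) :=
      Algebra.IsIntegral.of_injective _ hg
    have hinj : Function.Injective
        (algebraMap R (AdicCompletion J (MvPolynomial (Fin n) R) ⧸ P'.comap φ)) := by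
      rw [injective_iff_map_eq_zero]
      intro r hr
      have h1 : algebraMap R (AdicCompletion J (MvPolynomial (Fin n) R)) r ∈ P'.comap φ :=
        Ideal.Quotient.eq_zero_iff_mem.mp hr
      have h2 : φ (algebraMap R _ r) ∈ P' := h1
      rw [AlgHom.commutes] at h2
      exact hmemP' r h2
    rw [ringKrullDim_eq_of_integral_injective R _ hinj]
    refine ringKrullDim_eq_one R ((RingHom.ker ψ.toRingHom).under R) ?_
    intro h
    have h1 : t ∈ (RingHom.ker ψ.toRingHom).under R := by
      show algebraMap R B t ∈ RingHom.ker ψ.toRingHom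
      rw [RingHom.mem_ker]
      show ψ (algebraMap R B t) = 0
      rw [AlgHom.commutes, htK]
    rw [h] at h1
    exact ht h1

theorem main (R : Type u) [CommRing R] [IsDomain R] [ValuationRing R] [Ring.KrullDimLE 1 R]
    (t : R) (ht : t ≠ 0) [IsAdicComplete (Ideal.span {t}) R]
    (n : ℕ) (m : Ideal (AdicRing.RPow R (Ideal.span {t}) n)) [m.IsMaximal]
    (hm : algebraMap R (AdicRing.RPow R (Ideal.span {t}) n) t ∈ m) :
    ∃ p : Ideal (AdicRing.RPow R (Ideal.span {t}) n), p.IsPrime ∧ p ≤ m ∧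
      algebraMap R (AdicRing.RPow R (Ideal.span {t}) n) t ∉ p ∧
      ringKrullDim (AdicRing.RPow R (Ideal.span {t}) n ⧸ p) = 1 :=
  main_aux R t ht n _ (by rw [Ideal.map_span, Set.image_singleton]) m hm

end Groth.Agent.H8.RigPt
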