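import Mathlib
import Groth.Agent.Lib.Helper1.HensPairFin

/-!
# helper8: integral closure of a henselian valuation ring in an algebraic extension
-/

set_option autoImplicit false
universe u

open Polynomial IsLocalRing

namespace Groth.Agent.H8.RigPt

/-- a domain finite over a local ring henselian along `(t)` with `V(t)` the closed point is local -/
theorem isLocalRing_of_finite_domain (R : Type u) [CommRing R] [IsLocalRing R] (t : R)
    [HenselianRing R (Ideal.span {t})] (ht : t ∈ maximalIdeal R)
    (hV : ∀ p : Ideal R, p.IsPrime → t ∈ p → p = maximalIdeal R)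
    (C : Type u) [CommRing C] [IsDomain C] [Algebra R C] [Module.Finite R C] : IsLocalRing C := by
  classical
  haveI : Algebra.IsIntegral R C := Algebra.IsIntegral.of_finite R C
  obtain ⟨V, hVdef⟩ : ∃ V : Set (PrimeSpectrum C),
      V = PrimeSpectrum.zeroLocus ((Ideal.span {t}).map (algebraMap R C) : Set C) := ⟨_, rfl⟩
  have hmemV : ∀ x : PrimeSpectrum C, x ∈ V ↔ algebraMap R C t ∈ x.asIdeal := by
    intro x
    rw [hVdef, PrimeSpectrum.mem_zeroLocus, SetLike.coe_subset_coe, Ideal.map_span,
      Set.image_singleton, Ideal.span_singleton_le_iff_mem]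
  have hcomap : ∀ x ∈ V, x.asIdeal.comap (algebraMap R C) = maximalIdeal R := by
    intro x hx
    exact hV _ (Ideal.comap_isPrime _ _) ((hmemV x).mp hx)
  have hVmax : ∀ x ∈ V, x.asIdeal.IsMaximal := by
    intro x hx
    apply Ideal.isMaximal_of_isIntegral_of_isMaximal_comap (R := R) x.asIdeal
    rw [hcomap x hx]
    exact maximalIdeal.isMaximal R
  have hmaxV : ∀ (M : Ideal C) (hM : M.IsMaximal), (⟨M, hM.isPrime⟩ : PrimeSpectrum C) ∈ V := by
    intro M hM
    rw [hmemV]
    have h1 : (M.comap (algebraMap R C)).IsMaximal :=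
      Ideal.isMaximal_comap_of_isIntegral_of_isMaximal M
    have h2 := IsLocalRing.eq_maximalIdeal h1
    show t ∈ M.comap (algebraMap R C)
    rw [h2]
    exact ht
  have hVfin : V.Finite := by
    refine (Algebra.QuasiFinite.finite_comap_preimage_singleton (R := R) (S := C)
      (IsLocalRing.closedPoint R)).subset ?_
    intro x hx
    rw [Set.mem_preimage, Set.mem_singleton_iff]
    apply PrimeSpectrum.ext
    exact hcomap x hx
  have huniq : ∀ M1 M2 : Ideal C, M1.IsMaximal → M2.IsMaximal → M1 = M2 := by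
    intro M1 M2 h1 h2
    obtain ⟨x1, hx1⟩ : ∃ x1 : PrimeSpectrum C, x1 = ⟨M1, h1.isPrime⟩ := ⟨_, rfl⟩
    obtain ⟨x2, hx2⟩ : ∃ x2 : PrimeSpectrum C, x2 = ⟨M2, h2.isPrime⟩ := ⟨_, rfl⟩
    have hx1V : x1 ∈ V := by rw [hx1]; exact hmaxV M1 h1
    have hx2V : x2 ∈ V := by rw [hx2]; exact hmaxV M2 h2
    have hC : IsClosed ({x1} : Set (PrimeSpectrum C)) :=
      (PrimeSpectrum.isClosed_singleton_iff_isMaximal x1).mpr (hVmax x1 hx1V)
    have hO : IsOpen ((V \ {x1})ᶜ) := by
      rw [isOpen_compl_iff]
      have : V \ {x1} = ⋃ x ∈ V \ {x1}, {x} := (Set.biUnion_of_singleton _).symm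
      rw [this]
      exact (hVfin.diff).isClosed_biUnion fun x hx =>
        (PrimeSpectrum.isClosed_singleton_iff_isMaximal x).mpr (hVmax x hx.1)
    have hCO : ({x1} : Set (PrimeSpectrum C)) = (V \ {x1})ᶜ ∩ V := by
      ext x
      simp only [Set.mem_singleton_iff, Set.mem_inter_iff, Set.mem_compl_iff, Set.mem_diff,
        not_and, not_not]
      constructor
      · rintro rfl
        exact ⟨fun _ => rfl, hx1V⟩
      · rintro ⟨h, hx⟩
        exact h hx
    subst hVdef
    obtain ⟨e, he, heq⟩ := H1.HensPairFin.exists_idempotent_basicOpen (Ideal.span {t}) C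
      {x1} _ hC hO hCO
    rcases IsIdempotentElem.iff_eq_zero_or_one.mp he with rfl | rfl
    · rw [PrimeSpectrum.basicOpen_zero] at heq
      have : x1 ∈ ((⊥ : TopologicalSpace.Opens (PrimeSpectrum C)) : Set (PrimeSpectrum C)) ∩
          PrimeSpectrum.zeroLocus ((Ideal.span {t}).map (algebraMap R C) : Set C) := by
        rw [heq]; rfl
      exact absurd this.1 (by simp)
    · rw [PrimeSpectrum.basicOpen_one] at heq
      have : x2 ∈ ({x1} : Set (PrimeSpectrum C)) := by
        rw [← heq]
        exact ⟨trivial, hx2V⟩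
      have h3 : x2 = x1 := Set.mem_singleton_iff.mp this
      rw [hx1, hx2] at h3
      exact (congrArg PrimeSpectrum.asIdeal h3).symm
  obtain ⟨M, hM⟩ := Ideal.exists_maximal C
  exact IsLocalRing.of_unique_max_ideal ⟨M, hM, fun M' hM' => huniq M' M hM' hM⟩

/-- division by `X - x` keeps coefficients inside a subring integrally closed in `L`. -/
theorem exists_quotient_by_linear (S : Type*) [CommRing S] (L : Type*) [CommRing L] [Algebra S L]
    (hcl : ∀ y : L, IsIntegral S y → ∃ s : S, algebraMap S L s = y) (x : L) :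
    ∀ (n : ℕ) (f : S[X]), f.natDegree ≤ n → aeval x f = 0 →
      ∃ q : S[X], f.map (algebraMap S L) = (X - C x) * q.map (algebraMap S L) := by
  intro n
  induction n with
  | zero =>
    intro f hf hfx
    rw [Nat.le_zero] at hf
    rw [Polynomial.eq_C_of_natDegree_eq_zero hf] at hfx ⊢
    rw [aeval_C] at hfx
    refine ⟨0, ?_⟩
    rw [map_C, hfx, map_zero, Polynomial.map_zero, mul_zero]
  | succ n ih =>
    intro f hf hfx
    obtain ⟨a, ha⟩ : ∃ a, a = f.coeff (n + 1) := ⟨_, rfl⟩
    have hy : IsIntegral S (algebraMap S L a * x) := by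
      by_cases hdeg : f.natDegree = n + 1
      · have := isIntegral_leadingCoeff_smul (p := f) (x := x) hfx
        rw [Algebra.smul_def, Polynomial.leadingCoeff, hdeg, ← ha] at this
        exact this
      · have h0 : a = 0 := by
          rw [ha]
          exact Polynomial.coeff_eq_zero_of_natDegree_lt (lt_of_le_of_ne hf hdeg)
        rw [h0, map_zero, zero_mul]
        exact isIntegral_zero
    obtain ⟨s, hs⟩ := hcl _ hy
    obtain ⟨g, hg⟩ : ∃ g : S[X], g = f - C a * X ^ (n + 1) + C s * X ^ n := ⟨_, rfl⟩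
    have hgdeg : g.natDegree ≤ n := by
      rw [Polynomial.natDegree_le_iff_coeff_eq_zero]
      intro N hN
      rw [hg, coeff_add, coeff_sub, coeff_C_mul, coeff_C_mul, coeff_X_pow, coeff_X_pow]
      rcases Nat.lt_or_ge (n + 1) N with h | h
      · have h1 : f.coeff N = 0 := coeff_eq_zero_of_natDegree_lt (lt_of_le_of_lt hf h)
        rw [h1, if_neg (by omega), if_neg (by omega)]
        ring
      · have hN' : N = n + 1 := by omega
        subst hN'
        rw [if_pos rfl, if_neg (by omega), ← ha]
        ring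
    have hgx : aeval x g = 0 := by
      rw [hg, map_add, map_sub, hfx, map_mul, map_mul, aeval_C, aeval_C, map_pow, map_pow,
        aeval_X, hs]
      ring
    obtain ⟨q, hq⟩ := ih g hgdeg hgx
    refine ⟨C a * X ^ n + q, ?_⟩
    have hf' : f = g + C a * X ^ (n + 1) - C s * X ^ n := by rw [hg]; ring
    rw [hf', Polynomial.map_sub, Polynomial.map_add, hq, Polynomial.map_add, Polynomial.map_mul,
      Polynomial.map_mul, Polynomial.map_mul, Polynomial.map_pow, Polynomial.map_pow, map_X,
      map_C, map_C, hs, C_mul]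
    ring

end Groth.Agent.H8.RigPt
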